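import Mathlib

/-!
# PF12 package (AR): the arithmetic endgame

Pure arithmetic: the norm inequality of the character core together with the congruence
`c = e + g + p m` and the numerical facts on `e`, `p`, `|K|`, `|H : H'|` is contradictory.
-/

set_option autoImplicit false

namespace Cfsg.Agent.Lib.Helper95.PF12

/-- Integer part of the endgame: `c = e + p m`, `c ^ 2 ≤ e`, `3 ≤ e`, `e + 2 ≤ p`,
`e ∣ p ^ 2 - 1` is impossible. -/
theorem pf12_arith_int (e p : ℕ) (m : ℤ) (he3 : 3 ≤ e) (hep : e + 2 ≤ p) (hdvd : e ∣ p ^ 2 - 1)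
    (hc : ((e : ℤ) + p * m) ^ 2 ≤ e) : False := by
  have he3' : (3 : ℤ) ≤ e := by exact_mod_cast he3
  have hep' : (e : ℤ) + 2 ≤ p := by exact_mod_cast hep
  rcases lt_trichotomy m 0 with hm | hm | hm
  · -- `m ≤ -1`
    have hm' : m ≤ -1 := by omega
    have hp0 : (0 : ℤ) ≤ p := by positivity
    have hd2 : (2 : ℤ) ≤ (p : ℤ) - e := by linarith
    have hci : (e : ℤ) + p * m ≤ -((p : ℤ) - e) := by nlinarith
    have hsq : ((p : ℤ) - e) ^ 2 ≤ ((e : ℤ) + p * m) ^ 2 := by nlinarith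
    have hde : ((p : ℤ) - e) ^ 2 ≤ e := hsq.trans hc
    have h1 : (1 : ℕ) ≤ p ^ 2 := Nat.one_le_pow _ _ (by omega)
    have hdvd' : (e : ℤ) ∣ (p : ℤ) ^ 2 - 1 := by
      have := Int.natCast_dvd_natCast.mpr hdvd
      rwa [Nat.cast_sub h1, Nat.cast_pow, Nat.cast_one] at this
    have hdvd'' : (e : ℤ) ∣ ((p : ℤ) - e) ^ 2 - 1 := by
      have h2 : ((p : ℤ) - e) ^ 2 - 1 = ((p : ℤ) ^ 2 - 1) - (e : ℤ) * (2 * p - e) := by ring
      rw [h2]
      exact dvd_sub hdvd' (dvd_mul_right _ _)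
    have hpos : (0 : ℤ) < ((p : ℤ) - e) ^ 2 - 1 := by nlinarith
    have := Int.le_of_dvd hpos hdvd''
    linarith
  · subst hm
    simp only [mul_zero, add_zero] at hc
    nlinarith
  · have hm' : 1 ≤ m := by omega
    have hp0 : (0 : ℤ) ≤ p := by positivity
    have hci : (e : ℤ) + p ≤ (e : ℤ) + p * m := by nlinarith
    nlinarith

/-- Real part of the endgame, step 1: the inequality in cleared form. -/
theorem pf12_arith_real1 (e cK cH cL cN cD g c : ℝ) (hcNpos : 0 < cN) (hcLpos : 0 < cL)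
    (hineq : cL⁻¹ * ((cH - cD) * c ^ 2) +
      cN⁻¹ * (cN - e ^ 2 - 2 * g * e + g ^ 2 * (cK - 1)) ≤ 1) :
    cN * ((cH - cD) * c ^ 2) ≤ cL * (e ^ 2 + 2 * g * e - g ^ 2 * (cK - 1)) := by
  have h2 : cN⁻¹ * (cN - e ^ 2 - 2 * g * e + g ^ 2 * (cK - 1))
      = 1 - cN⁻¹ * (e ^ 2 + 2 * g * e - g ^ 2 * (cK - 1)) := by
    field_simp; ring
  rw [h2] at hineq
  have h1 : cL⁻¹ * ((cH - cD) * c ^ 2) ≤ cN⁻¹ * (e ^ 2 + 2 * g * e - g ^ 2 * (cK - 1)) := by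
    linarith
  have h4 := mul_le_mul_of_nonneg_left h1 (mul_pos hcLpos hcNpos).le
  have e1 : cL * cN * (cL⁻¹ * ((cH - cD) * c ^ 2)) = cN * ((cH - cD) * c ^ 2) := by
    field_simp
  have e2 : cL * cN * (cN⁻¹ * (e ^ 2 + 2 * g * e - g ^ 2 * (cK - 1)))
      = cL * (e ^ 2 + 2 * g * e - g ^ 2 * (cK - 1)) := by
    field_simp
  rwa [e1, e2] at h4

/-- Real part of the endgame, step 2 (A): `g ^ 2 ≥ 1` and `2 g ^ 2 - g ≥ 1` are impossible. -/
theorem pf12_arith_real2 (e p cK cH cL cN cD g c : ℝ) (he : 3 ≤ e) (hp : e + 2 ≤ p)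
    (hcK : p ^ 2 ≤ cK) (hcNpos : 0 < cN) (hcLpos : 0 < cL) (hdiff : 0 ≤ cH - cD)
    (h3 : cN * ((cH - cD) * c ^ 2) ≤ cL * (e ^ 2 + 2 * g * e - g ^ 2 * (cK - 1)))
    (hg1 : 1 ≤ g ^ 2) (hg2 : 1 ≤ 2 * g ^ 2 - g) : False := by
  have hK1 : (e + 2) ^ 2 - 1 ≤ cK - 1 := by nlinarith
  have hm1 : g ^ 2 * ((e + 2) ^ 2 - 1) ≤ g ^ 2 * (cK - 1) :=
    mul_le_mul_of_nonneg_left hK1 (by positivity)
  have hm2 : e * 1 ≤ e * (2 * g ^ 2 - g) := mul_le_mul_of_nonneg_left hg2 (by linarith)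
  have hm3 : e ^ 2 * 1 ≤ e ^ 2 * g ^ 2 := mul_le_mul_of_nonneg_left hg1 (by positivity)
  have hYneg : e ^ 2 + 2 * g * e - g ^ 2 * (cK - 1) < 0 := by
    have e3 : g ^ 2 * ((e + 2) ^ 2 - 1)
        = e ^ 2 * g ^ 2 + 2 * (e * (2 * g ^ 2 - g)) + 2 * g * e + 3 * g ^ 2 := by ring
    linarith
  have h5 : cL * (e ^ 2 + 2 * g * e - g ^ 2 * (cK - 1)) < 0 := mul_neg_of_pos_of_neg hcLpos hYneg
  have h6 : 0 ≤ cN * ((cH - cD) * c ^ 2) := by positivity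
  linarith

/-- Real part of the endgame, step 3 (B): with `g = 0`, `c ^ 2 < e + 1`. -/
theorem pf12_arith_real3 (e p cK cH cL cN cD c : ℝ) (he : 3 ≤ e) (hp : e + 2 ≤ p)
    (hcKpos : 0 < cK) (hcN : cN = e * cK) (hcL : cL ≤ cH * cK) (hcH : (p + 1) * cD ≤ cH)
    (hcDpos : 0 < cD)
    (h3 : cN * ((cH - cD) * c ^ 2) ≤ cL * e ^ 2) : c ^ 2 < e + 1 := by
  have hppos : 0 < p := by linarith
  have hepos : 0 < e := by linarith
  have hcHpos : 0 < cH := by nlinarith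
  have h5 : e * cK * ((cH - cD) * c ^ 2) ≤ e * cK * (e * cH) := by
    calc e * cK * ((cH - cD) * c ^ 2) = cN * ((cH - cD) * c ^ 2) := by rw [hcN]
      _ ≤ cL * e ^ 2 := h3
      _ ≤ cH * cK * e ^ 2 := mul_le_mul_of_nonneg_right hcL (by positivity)
      _ = e * cK * (e * cH) := by ring
  have h6 : (cH - cD) * c ^ 2 ≤ e * cH := le_of_mul_le_mul_left h5 (by positivity)
  have h8 : p * cH ≤ (p + 1) * (cH - cD) := by linarith
  have h7 : p * cH * c ^ 2 ≤ (p + 1) * ((cH - cD) * c ^ 2) := by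
    calc p * cH * c ^ 2 ≤ (p + 1) * (cH - cD) * c ^ 2 :=
          mul_le_mul_of_nonneg_right h8 (by positivity)
      _ = (p + 1) * ((cH - cD) * c ^ 2) := by ring
  have h9 : cH * (p * c ^ 2) ≤ cH * ((p + 1) * e) := by
    calc cH * (p * c ^ 2) = p * cH * c ^ 2 := by ring
      _ ≤ (p + 1) * ((cH - cD) * c ^ 2) := h7
      _ ≤ (p + 1) * (e * cH) := mul_le_mul_of_nonneg_left h6 (by linarith)
      _ = cH * ((p + 1) * e) := by ring
  have h10 : p * c ^ 2 ≤ (p + 1) * e := le_of_mul_le_mul_left h9 hcHpos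
  have h11 : p * c ^ 2 < p * (e + 1) := by
    have : (p + 1) * e < p * (e + 1) := by linarith
    linarith
  exact lt_of_mul_lt_mul_left h11 hppos.le

/-- **PF12 package (AR).** -/
theorem pf12_arith (e p cK cH cL cN cD : ℕ) (g m : ℤ) (he3 : 3 ≤ e) (hep : e + 2 ≤ p)
    (hdvd : e ∣ p ^ 2 - 1) (hK : p ^ 2 ≤ cK) (hN : cN = e * cK) (hL : cL ≤ cH * cK)
    (hL0 : 0 < cL) (hH : (p + 1) * cD ≤ cH) (hD0 : 0 < cD)
    (hineq : (cL : ℝ)⁻¹ * (((cH : ℝ) - cD) * ((e : ℝ) + g + p * m) ^ 2) +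
      (cN : ℝ)⁻¹ * ((cN : ℝ) - (e : ℝ) ^ 2 - 2 * g * e + (g : ℝ) ^ 2 * ((cK : ℝ) - 1)) ≤ 1) :
    False := by
  have he : (3 : ℝ) ≤ e := by exact_mod_cast he3
  have hp : (e : ℝ) + 2 ≤ p := by exact_mod_cast hep
  have hcK : (p : ℝ) ^ 2 ≤ cK := by exact_mod_cast hK
  have hcN : (cN : ℝ) = e * cK := by rw [hN]; push_cast; ring
  have hcL : (cL : ℝ) ≤ cH * cK := by exact_mod_cast hL
  have hcLpos : (0 : ℝ) < cL := by exact_mod_cast hL0
  have hcH : ((p : ℝ) + 1) * cD ≤ cH := by exact_mod_cast hH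
  have hcDpos : (0 : ℝ) < cD := by exact_mod_cast hD0
  have hppos : (0 : ℝ) < p := by linarith
  have hcKpos : (0 : ℝ) < cK := lt_of_lt_of_le (by positivity) hcK
  have hcNpos : (0 : ℝ) < cN := by rw [hcN]; positivity
  have hdiff : (0 : ℝ) ≤ (cH : ℝ) - cD := by
    have : (p : ℝ) * cD ≤ (cH : ℝ) - cD := by linarith
    exact le_trans (by positivity) this
  have h3 := pf12_arith_real1 (e : ℝ) cK cH cL cN cD g ((e : ℝ) + g + p * m) hcNpos hcLpos hineq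
  -- (A) `g = 0`
  have hg : g = 0 := by
    by_contra hg0
    have hg1 : (1 : ℤ) ≤ g ^ 2 := by
      have : 0 < g ^ 2 := by positivity
      omega
    have hg2 : (1 : ℤ) ≤ 2 * g ^ 2 - g := by
      rcases lt_or_gt_of_ne hg0 with h | h
      · nlinarith
      · nlinarith
    have hg1' : (1 : ℝ) ≤ (g : ℝ) ^ 2 := by exact_mod_cast hg1
    have hg2' : (1 : ℝ) ≤ 2 * (g : ℝ) ^ 2 - g := by exact_mod_cast hg2
    exact pf12_arith_real2 (e : ℝ) p cK cH cL cN cD g _ he hp hcK hcNpos hcLpos hdiff h3 hg1' hg2'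
  -- (B) `c ^ 2 < e + 1`
  subst hg
  have h3' : (cN : ℝ) * (((cH : ℝ) - cD) * ((e : ℝ) + p * m) ^ 2) ≤ (cL : ℝ) * (e : ℝ) ^ 2 := by
    have := h3
    simp only [Int.cast_zero, add_zero, mul_zero, zero_mul, ne_eq, OfNat.ofNat_ne_zero,
      not_false_eq_true, zero_pow, sub_zero] at this
    exact this
  have h10 := pf12_arith_real3 (e : ℝ) p cK cH cL cN cD ((e : ℝ) + p * m) he hp hcKpos hcN hcL hcH
    hcDpos h3'
  -- (C) integers
  have h11 : ((e : ℤ) + p * m) ^ 2 ≤ e := by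
    have : (((((e : ℤ) + p * m) ^ 2 : ℤ)) : ℝ) < (((e : ℤ) + 1 : ℤ) : ℝ) := by
      push_cast
      exact h10
    have h12 : ((e : ℤ) + p * m) ^ 2 < (e : ℤ) + 1 := by exact_mod_cast this
    omega
  exact pf12_arith_int e p m he3 hep hdvd h11

end Cfsg.Agent.Lib.Helper95.PF12
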