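import Mathlib
import Cfsg.Prelude.Def_OddOrderLocal
import Cfsg.Agent.S1350
import Cfsg.Agent.S1432
import Cfsg.Agent.Lib.Helper65.BG.S1391Norm
import Cfsg.Agent.Lib.Helper76.BG.S1420Core
import Cfsg.Agent.Lib.Helper85.BG.Conj
import Cfsg.Agent.Lib.Helper10.PF12.Arith
import Cfsg.Agent.Lib.Helper29.PF12.Setup

/-!
# PF12 package (ST'): the bound `|T| e + 2 |H| ≤ |K| |H|` for the minimal pair

For the configuration `PairSetup` of helper29 and a subgroup `H ≤ T ≤ L` every element of which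
outside `H` centralizes a non-identity element of `H`: `T ⊓ U` is a TI-like subset (a non-identity
`w ∈ T ⊓ U` has `C_G(w) ≤ L` with `L` the only maximal subgroup over it, by S1432 and `κ(L) = ∅`),
so helper10's `st_bound` applies to `T ⊓ U`, and `|T| = |T ⊓ U| |H|`.
-/

set_option autoImplicit false

namespace Cfsg.Agent.Lib.Helper95.PF12

open Cfsg Subgroup

universe u

variable {G : Type u} [Group G]

/-- A non-identity element `w` of the complement `U` centralizing a non-identity element of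
`H = L_σ` has `C_G(w) ≤ L`, and `L` is the only maximal subgroup containing `C_G(w)`. -/
theorem centralizer_le_of_setup [Finite G] (hG : IsMinSimpleOddOrder G)
    {L N H K U U₁ E A : Subgroup G} {p : ℕ} {y : G}
    (hS : Cfsg.Agent.Lib.Helper29.PF12.PairSetup L N H K U U₁ E A p y)
    (w : G) (hwU : w ∈ U) (hw1 : w ≠ 1) (h : G) (hh : h ∈ H) (hh1 : h ≠ 1)
    (hwh : w * h = h * w) :
    centralizer ({w} : Set G) ≤ L ∧
      ∀ L' : Subgroup G, IsCoatom L' → centralizer ({w} : Set G) ≤ L' → L' = L := by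
  have hL := hS.coatomL
  have hHallL := (Cfsg.Agent.S1350.result hG L hL).1
  have hcomplL : IsComplIn U (sigmaCore L) L := by
    have := hS.complL
    rwa [hS.H_eq'] at this
  have hcardU := Cfsg.Agent.Lib.Helper76.BG.card_compl_eq_relIndex hcomplL
  have hhσ : h ∈ sigmaCore L := by
    rw [← hS.H_eq']; exact hh
  have hwL : w ∈ L ⊓ centralizer ({h} : Set G) := by
    refine Subgroup.mem_inf.mpr ⟨hS.hUL hwU, ?_⟩
    rw [Subgroup.mem_centralizer_singleton_iff]
    exact hwh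
  have hσ : ∀ q : ℕ, q.Prime → q ∣ orderOf w → q ∉ sigma L := by
    intro q hq hqd hqσ
    have h1 : orderOf w ∣ Nat.card U := by
      have := orderOf_dvd_natCard (⟨w, hwU⟩ : U)
      rwa [Subgroup.orderOf_mk] at this
    have h2 : q ∣ (sigmaCore L).relIndex L := by
      rw [← hcardU]
      exact hqd.trans h1
    exact hHallL.2.2 q hq hqσ h2
  obtain ⟨q, hqp, hqd⟩ := Nat.exists_prime_and_dvd (orderOf_eq_one_iff.not.mpr hw1)
  rcases Cfsg.Agent.S1432.result hG L hL h hhσ hh1 w hwL hw1 hσ with ⟨hκ, -⟩ | ⟨-, -, hc⟩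
  · have := hκ q hqp hqd
    rw [hS.kappaL] at this
    exact absurd this (Set.notMem_empty q)
  · exact hc

/-- **PF12 package (ST').** -/
theorem st_of_setup [Finite G] (hG : IsMinSimpleOddOrder G)
    {L N H K U U₁ E A : Subgroup G} {p : ℕ} {y : G}
    (hS : Cfsg.Agent.Lib.Helper29.PF12.PairSetup L N H K U U₁ E A p y)
    (T : Subgroup G) (hHT : H ≤ T) (hTL : T ≤ L)
    (hT : ∀ t ∈ T, t ∉ H → ∃ h ∈ H, h ≠ 1 ∧ t * h = h * t) :
    Nat.card T * Nat.card E + 2 * Nat.card H ≤ Nat.card K * Nat.card H := by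
  have : Fact p.Prime := ⟨hS.prime⟩
  have hL := hS.coatomL
  have hnotH : ∀ w ∈ T ⊓ U, w ≠ 1 → w ∉ H := by
    intro w hw hw1 hwH
    have : w ∈ H ⊓ U := ⟨hwH, hw.2⟩
    rw [hS.hHU, Subgroup.mem_bot] at this
    exact hw1 this
  have hkey : ∀ w ∈ T ⊓ U, w ≠ 1 → centralizer ({w} : Set G) ≤ L ∧
      ∀ L' : Subgroup G, IsCoatom L' → centralizer ({w} : Set G) ≤ L' → L' = L := by
    intro w hw hw1
    obtain ⟨h, hh, hh1, hwh⟩ := hT w hw.1 (hnotH w hw hw1)
    exact centralizer_le_of_setup hG hS w hw.2 hw1 h hh hh1 hwh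
  have hTI : ∀ w ∈ T ⊓ U, w ≠ 1 → ∀ n : G, n ∉ L → n * w * n⁻¹ ∉ T ⊓ U := by
    intro w hw hw1 n hnL hw'
    have hw'1 : n * w * n⁻¹ ≠ 1 := by
      intro h1
      apply hw1
      have : w = n⁻¹ * (n * w * n⁻¹) * n := by group
      rw [this, h1]; group
    have hcw := (hkey w hw hw1).1
    have huniq := (hkey _ hw' hw'1).2
    have hco : IsCoatom (L.map (MulAut.conj n).toMonoidHom) :=
      Cfsg.Agent.Lib.Helper85.BG.isCoatom_map_conj hL n
    have hle : centralizer ({n * w * n⁻¹} : Set G) ≤ L.map (MulAut.conj n).toMonoidHom := by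
      intro c hc
      rw [Subgroup.mem_centralizer_singleton_iff] at hc
      have hc' : n⁻¹ * c * n ∈ centralizer ({w} : Set G) := by
        rw [Subgroup.mem_centralizer_singleton_iff]
        have e1 : n⁻¹ * c * n * w = n⁻¹ * (c * (n * w * n⁻¹)) * n := by group
        have e2 : w * (n⁻¹ * c * n) = n⁻¹ * ((n * w * n⁻¹) * c) * n := by group
        rw [e1, e2, hc]
      refine ⟨n⁻¹ * c * n, hcw hc', ?_⟩
      simp only [MulEquiv.coe_toMonoidHom, MulAut.conj_apply]
      group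
    have hmap : L.map (MulAut.conj n).toMonoidHom = L := huniq _ hco hle
    have hnN : n ∈ normalizer (L : Set G) := by
      rw [Subgroup.mem_normalizer_iff]
      intro x
      constructor
      · intro hx
        rw [← hmap]
        exact ⟨x, hx, by simp [MulAut.conj_apply]⟩
      · intro hx
        rw [← hmap] at hx
        obtain ⟨l, hl, hlx⟩ := hx
        simp only [MulEquiv.coe_toMonoidHom, MulAut.conj_apply] at hlx
        have : l = x := by
          have := congrArg (fun t => n⁻¹ * t * n) hlx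
          simpa [mul_assoc] using this
        rw [← this]; exact hl
    rw [Cfsg.Agent.Lib.Helper65.BG91.normalizer_coatom_eq hG L hL] at hnN
    exact hnL hnN
  have hodd : Odd (Nat.card G) := hG.1
  have hyH : ∃ x ∈ H, x ≠ 1 ∧ x * y = y * x := by
    obtain ⟨x, hxH, hxD, hxy⟩ := hS.hyD
    refine ⟨x, hxH, ?_, hxy⟩
    rintro rfl
    exact hxD (Subgroup.one_mem _)
  have hst := Cfsg.Agent.Lib.Helper10.PF12.st_bound L H U U₁ N K E A p y hodd hS.hE1 hS.hUL hS.hLH
    hS.hHU hS.hcop hS.hHsolv hS.hU₁ab hS.hU₁ hS.hAU hS.hAcard hS.hAexp hS.hUA hS.hAp hS.hAcent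
    hS.hCHA hS.hCA hS.hyA hS.hy1 hyH hS.hNy hS.hES hS.hSK hS.hKE hS.hSKE hS.hfpf hS.hKnil hS.hAK
    hS.hLS (T ⊓ U) inf_le_right hTI
  -- `|T| = |T ⊓ U| * |H|`
  have hcard : Nat.card T = Nat.card (T ⊓ U : Subgroup G) * Nat.card H := by
    rw [← Nat.card_prod]
    symm
    let f : (T ⊓ U : Subgroup G) × H → T := fun x =>
      ⟨(x.1 : G) * (x.2 : G), T.mul_mem x.1.2.1 (hHT x.2.2)⟩
    refine Nat.card_congr (Equiv.ofBijective f ⟨?_, ?_⟩)
    · rintro ⟨a, b⟩ ⟨a', b'⟩ hab
      have hab' : (a : G) * (b : G) = (a' : G) * (b' : G) := congrArg Subtype.val hab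
      have h1 : (a' : G)⁻¹ * (a : G) = (b' : G) * (b : G)⁻¹ := by
        calc (a' : G)⁻¹ * (a : G) = (a' : G)⁻¹ * ((a : G) * (b : G)) * (b : G)⁻¹ := by group
          _ = (a' : G)⁻¹ * ((a' : G) * (b' : G)) * (b : G)⁻¹ := by rw [hab']
          _ = (b' : G) * (b : G)⁻¹ := by group
      have h2 : (a' : G)⁻¹ * (a : G) ∈ H ⊓ U := by
        refine ⟨?_, U.mul_mem (U.inv_mem a'.2.2) a.2.2⟩
        rw [h1]
        exact H.mul_mem b'.2 (H.inv_mem b.2)
      rw [hS.hHU, Subgroup.mem_bot] at h2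
      have ha : (a : G) = a' := by
        have : (a : G) = (a' : G) * ((a' : G)⁻¹ * (a : G)) := by group
        rw [this, h2, mul_one]
      have hb : (b : G) = b' := by
        have h3 : (b' : G) * (b : G)⁻¹ = 1 := by rw [← h1, h2]
        have : (b : G) = ((b' : G) * (b : G)⁻¹)⁻¹ * (b' : G) := by group
        rw [this, h3]; simp
      exact Prod.ext (Subtype.ext ha) (Subtype.ext hb)
    · rintro ⟨x, hx⟩
      obtain ⟨a, ha, b, hb, hxab⟩ := hS.complL.2.2.2 x (hTL hx)
      have haT : a ∈ T := by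
        have : a = x * b⁻¹ := by rw [hxab]; group
        rw [this]
        exact T.mul_mem hx (T.inv_mem (hHT hb))
      exact ⟨(⟨a, haT, ha⟩, ⟨b, hb⟩), Subtype.ext hxab.symm⟩
  rw [hcard]
  calc Nat.card (T ⊓ U : Subgroup G) * Nat.card H * Nat.card E + 2 * Nat.card H
      = (Nat.card (T ⊓ U : Subgroup G) * Nat.card E + 2) * Nat.card H := by ring
    _ ≤ Nat.card K * Nat.card H := Nat.mul_le_mul_right _ hst

end Cfsg.Agent.Lib.Helper95.PF12
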