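import Mathlib
import Cfsg.Prelude.Def_OddOrderLocal
import Cfsg.Agent.S1350
import Cfsg.Agent.S1417
import Cfsg.Agent.S1418
import Cfsg.Agent.Lib.Helper20.BG.S1408Core
import Cfsg.Agent.Lib.Helper27.BG.SigmaBasic
import Cfsg.Agent.Lib.Helper35.BG.Basic
import Cfsg.Agent.Lib.Helper67.BG.Basics
import Cfsg.Agent.Lib.Helper67.BG.Fusion
import Cfsg.Agent.Lib.Helper76.BG.S1420Core
import Cfsg.Agent.Lib.Helper95.PF12.DescentCore

/-!
# PF12, GAP (1) (package P10): the minimal-prime descent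

`G` a minimal simple group of odd order.

* `tau2_lt_of_witness`: `L`, `N` maximal, `p ∈ τ₂(L)`, `A ≅ E_{p²}`, `A ≤ L ⊓ N`, `p ∈ σ(N)`.  Then every
  `q ∈ τ₂(N)` satisfies `q < p`.  (No hypothesis on `κ`.)
* `exists_sigma_witness`: every nontrivial `p`-subgroup lies in a maximal `N` with `p ∈ σ(N)`.
* `exists_minimal_tau2_pair`: if some maximal subgroup has `τ₂ ≠ ∅`, there is a pair `(L, p)` with `p`
  minimal, `A ≅ E_{p²}` in `L`, and a witness `N ≥ A` with `p ∈ σ(N)` and `τ₂(N) = ∅`.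
-/

set_option autoImplicit false

namespace Cfsg.Agent.Lib.Helper95.PF12

open Cfsg

variable {G : Type*} [Group G] [Finite G]

/-- **Descent lemma.** `L`, `N` maximal, `p ∈ τ₂(L)`, `A ≤ L ⊓ N` elementary abelian of order `p ^ 2`,
`p ∈ σ(N)`.  Then every `q ∈ τ₂(N)` is smaller than `p`. -/
theorem tau2_lt_of_witness (hG : IsMinSimpleOddOrder G)
    {L N : Subgroup G} (hL : IsCoatom L) (hN : IsCoatom N)
    {p : ℕ} (hp : p ∈ tau2 L) {A : Subgroup G} (hAL : A ≤ L)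
    (hA : IsElementaryAbelian p A) (hA2 : Nat.card A = p ^ 2)
    (hpN : p ∈ sigma N) (hAN : A ≤ N) {q : ℕ} (hq : q ∈ tau2 N) : q < p := by
  have hpp : p.Prime := hp.1
  have hqq : q.Prime := hq.1
  have : Fact p.Prime := ⟨hpp⟩
  have : Fact q.Prime := ⟨hqq⟩
  have hHallL := (Cfsg.Agent.S1350.result hG L hL).1
  have hHallN := (Cfsg.Agent.S1350.result hG N hN).1
  -- a complement `E` of `L_σ` in `L` containing `A`
  have hAσ : ∀ r : ℕ, r.Prime → r ∣ Nat.card A → r ∉ sigma L := by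
    intro r hr hdvd
    rw [hA2] at hdvd
    have h1 : r = p := (Nat.prime_dvd_prime_iff_eq hr hpp).mp (hr.dvd_of_dvd_pow hdvd)
    rw [h1]; exact hp.2.1
  obtain ⟨E, hE, hAE⟩ := Cfsg.Agent.Lib.Helper76.BG.exists_compl_ge hG L hL hHallL A hAL hAσ
  obtain ⟨⟨-, hord⟩, ⟨hcentA, hLNA, -⟩, -⟩ :=
    Cfsg.Agent.S1418.result hG L hL E hE p hp A ⟨hAE, hA, hA2⟩
  -- `B ≅ E_{q²}` in `N` and the structure of `N`
  obtain ⟨B, hBN, hB, hB2⟩ := Cfsg.Agent.Lib.Helper20.BG.exists_ea_sq N q hq.2.2.1 hq.2.2.2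
  obtain ⟨hnil, -, -, -, -, B₁, hB₁B, hB₁card, hB₁fix⟩ :=
    Cfsg.Agent.S1417.result hG N hN q hq B ⟨hBN, hB, hB2⟩
  obtain ⟨b, hbB₁, hbo, hB₁eq⟩ :=
    Cfsg.Agent.Lib.Helper27.BG.exists_generator_of_card_prime hqq hB₁card
  -- `A ≤ N_σ`
  have hAT : A ≤ sigmaCore N := by
    refine Cfsg.Agent.Lib.Helper27.BG.le_of_coprime_relIndex
      (Cfsg.Agent.Lib.Helper67.BG.sigmaCore_le N)
      (Cfsg.Agent.Lib.Helper67.BG.sigmaCore_normalizer N) hAN ?_
    rw [hA2]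
    exact Nat.Coprime.pow_left 2 ((Nat.Prime.coprime_iff_not_dvd hpp).mpr (hHallN.2.2 p hpp hpN))
  have hoddG : Odd (Nat.card G) := hG.1
  have hpG : p ∣ Nat.card G := by
    have h1 : Nat.card A ∣ Nat.card G := Subgroup.card_subgroup_dvd_card A
    rw [hA2] at h1
    exact (dvd_pow_self p two_ne_zero).trans h1
  have hqG : q ∣ Nat.card G := by
    have h1 : Nat.card B ∣ Nat.card G := Subgroup.card_subgroup_dvd_card B
    rw [hB2] at h1
    exact (dvd_pow_self q two_ne_zero).trans h1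
  refine lt_of_fixedPointFree (sigmaCore N) A hnil hAT hA2 hA.2 ?_ b ?_ ?_ ?_ ?_ ?_ ?_
  · intro z hzp hzc
    by_cases hz1 : z = 1
    · rw [hz1]; exact A.one_mem
    have hzC : z ∈ Subgroup.centralizer (A : Set G) := by
      rw [Subgroup.mem_centralizer_iff]
      intro a ha
      exact hzc a ha
    have hzE : z ∈ E := by
      have h1 := hcentA hzC
      rw [hLNA] at h1
      exact h1
    have hzo : orderOf z = p := orderOf_eq_prime hzp hz1
    have hcard : Nat.card (Subgroup.zpowers z) = p := by rw [Nat.card_zpowers, hzo]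
    exact hord (Subgroup.zpowers z) (by rw [Subgroup.zpowers_le]; exact hzE) hcard
      (Subgroup.mem_zpowers z)
  · exact Cfsg.Agent.Lib.Helper67.BG.sigmaCore_normalizer N (hBN (hB₁B hbB₁))
  · rw [← hbo]; exact pow_orderOf_eq_one b
  · intro t ht hbt
    have h1 : t ∈ sigmaCore N ⊓ Subgroup.centralizer (B₁ : Set G) := by
      refine ⟨ht, ?_⟩
      rw [hB₁eq]
      exact Cfsg.Agent.Lib.Helper27.BG.mem_centralizer_zpowers hbt.symm
    rw [hB₁fix, Subgroup.mem_bot] at h1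
    exact h1
  · rintro rfl
    exact hq.2.1 hpN
  · rintro rfl
    exact (Nat.not_even_iff_odd.mpr hoddG) (even_iff_two_dvd.mpr hpG)
  · rintro rfl
    exact (Nat.not_even_iff_odd.mpr hoddG) (even_iff_two_dvd.mpr hqG)

/-- Every nontrivial `p`-subgroup lies in a maximal subgroup `N` with `p ∈ σ(N)` (any maximal
subgroup containing the normalizer of a Sylow `p`-subgroup of `G` over it). -/
theorem exists_sigma_witness (hG : IsMinSimpleOddOrder G) {p : ℕ} [Fact p.Prime]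
    {A : Subgroup G} (hA : IsPGroup p A) (hA1 : A ≠ ⊥) :
    ∃ N : Subgroup G, IsCoatom N ∧ p ∈ sigma N ∧ A ≤ N := by
  obtain ⟨S, hAS⟩ := hA.exists_le_sylow
  have hS1 : (S : Subgroup G) ≠ ⊥ := fun h => hA1 (le_bot_iff.mp (h ▸ hAS))
  have hStop : (S : Subgroup G) ≠ ⊤ := Cfsg.Agent.Lib.Helper67.BG.sylow_ne_top_of_minSimple hG p S
  obtain ⟨N, hN, hNN⟩ := Cfsg.Agent.Lib.Helper35.BG.exists_coatom_ge
    (Cfsg.Agent.Lib.Helper35.BG.normalizer_ne_top hG hS1 hStop)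
  have hSN : (S : Subgroup G) ≤ N := Subgroup.le_normalizer.trans hNN
  have hStopSyl : Cfsg.Agent.Lib.Helper46.IsSylowIn p (S : Subgroup G) ⊤ := by
    refine ⟨le_top, ?_⟩
    rw [Subgroup.card_top]
    exact S.card_eq_multiplicity
  have hSylN : Cfsg.Agent.Lib.Helper46.IsSylowIn p (S : Subgroup G) N :=
    Cfsg.Agent.Lib.Helper35.BG.sylIn_mono hStopSyl hSN le_top
  have hpS : p ∣ Nat.card (S : Subgroup G) := by
    obtain ⟨n, hn0, hn⟩ := S.isPGroup'.nontrivial_iff_card.mp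
      ((Subgroup.nontrivial_iff_ne_bot _).mpr hS1)
    rw [hn]
    exact dvd_pow_self p hn0.ne'
  refine ⟨N, hN, ?_, hAS.trans hSN⟩
  exact Cfsg.Agent.Lib.Helper27.BG.mem_sigma_of_isSylowIn hSylN
    (hpS.trans (Subgroup.card_dvd_of_le hSN)) hNN

/-- **Package P10 (minimal pair).** If some maximal subgroup has `τ₂ ≠ ∅`, choose `(L, p)` with
`p ∈ τ₂(L)` and `p` minimal; for every `A ≅ E_{p²}` in `L` there is a maximal subgroup `N ≥ A` with
`p ∈ σ(N)`, and every such `N` has `τ₂(N) = ∅`. -/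
theorem exists_minimal_tau2_pair (hG : IsMinSimpleOddOrder G)
    (h : ∃ L : Subgroup G, IsCoatom L ∧ (tau2 L).Nonempty) :
    ∃ (L N A : Subgroup G) (p : ℕ), IsCoatom L ∧ p ∈ tau2 L ∧
      A ≤ L ∧ IsElementaryAbelian p A ∧ Nat.card A = p ^ 2 ∧
      IsCoatom N ∧ p ∈ sigma N ∧ A ≤ N ∧ tau2 N = ∅ ∧
      (∀ (L' : Subgroup G) (q : ℕ), IsCoatom L' → q ∈ tau2 L' → p ≤ q) := by
  classical
  have hex : ∃ p : ℕ, ∃ L : Subgroup G, IsCoatom L ∧ p ∈ tau2 L := by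
    obtain ⟨L, hL, p, hp⟩ := h
    exact ⟨p, L, hL, hp⟩
  obtain ⟨L, hL, hp⟩ := Nat.find_spec hex
  set p := Nat.find hex with hpdef
  have hmin : ∀ (L' : Subgroup G) (q : ℕ), IsCoatom L' → q ∈ tau2 L' → p ≤ q :=
    fun L' q hL' hq => Nat.find_min' hex ⟨L', hL', hq⟩
  have hpp : p.Prime := hp.1
  have : Fact p.Prime := ⟨hpp⟩
  obtain ⟨A, hAL, hA, hA2⟩ := Cfsg.Agent.Lib.Helper20.BG.exists_ea_sq L p hp.2.2.1 hp.2.2.2
  have hApg : IsPGroup p A := IsPGroup.of_card hA2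
  have hA1 : A ≠ ⊥ := by
    intro h0
    rw [h0, Subgroup.card_bot] at hA2
    have := hpp.one_lt
    have h2 : 1 < p ^ 2 := Nat.one_lt_pow two_ne_zero this
    omega
  obtain ⟨N, hN, hpN, hAN⟩ := exists_sigma_witness hG hApg hA1
  refine ⟨L, N, A, p, hL, hp, hAL, hA, hA2, hN, hpN, hAN, ?_, hmin⟩
  rw [Set.eq_empty_iff_forall_notMem]
  intro q hq
  have h1 := tau2_lt_of_witness hG hL hN hp hAL hA hA2 hpN hAN hq
  have h2 := hmin N q hN hq
  omega

end Cfsg.Agent.Lib.Helper95.PF12
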